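import Groth.Agent.Lib.Helper22.EtStalk.SepField
import Groth.Agent.Lib.Helper14.EtaleLQF
import Mathlib.AlgebraicGeometry.Morphisms.FormallyUnramified
import Mathlib.AlgebraicGeometry.Morphisms.QuasiFinite
import Mathlib.AlgebraicGeometry.ResidueField

/-!
# Schemes étale over the spectrum of a separably closed field (helper22)
-/

set_option autoImplicit false
universe u
open CategoryTheory CategoryTheory.Limits AlgebraicGeometry Opposite TopologicalSpace

namespace Groth.Agent.Lib.Helper22.SepPt

variable {k : Type u} [Field k]

/-- Residue fields of the spectrum of a separably closed field are separably closed. -/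
lemma isSepClosed_residueField_Spec [IsSepClosed k] (x : Spec (CommRingCat.of k)) :
    IsSepClosed ((Spec (CommRingCat.of k)).residueField x) := by
  let e1 : k ≃+* x.asIdeal.ResidueField := (Ideal.algEquivResidueFieldOfField x.asIdeal).toRingEquiv
  have h1 : IsSepClosed x.asIdeal.ResidueField :=
    Groth.Agent.Lib.Helper22.EtStalk.SepField.isSepClosed_of_ringEquiv k _ e1
  let e2 : x.asIdeal.ResidueField ≃+* (Spec (CommRingCat.of k)).residueField x :=
    (Scheme.Spec.residueFieldIso (CommRingCat.of k) x).symm.commRingCatIsoToRingEquiv
  exact Groth.Agent.Lib.Helper22.EtStalk.SepField.isSepClosed_of_ringEquiv _ _ e2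

variable {S : Scheme.{u}} (π : S ⟶ Spec (CommRingCat.of k)) [Etale π]

include π in
/-- Residue fields of a scheme étale over a separably closed field are separably closed. -/
theorem isSepClosed_residueField [IsSepClosed k] (s : S) : IsSepClosed (S.residueField s) := by
  have h0 : IsSepClosed ((Spec (CommRingCat.of k)).residueField (π s)) := isSepClosed_residueField_Spec (π s)
  let _ : Algebra ((Spec (CommRingCat.of k)).residueField (π s)) (S.residueField s) :=
    (π.residueFieldMap s).hom.toAlgebra
  have hsep : Algebra.IsSeparable ((Spec (CommRingCat.of k)).residueField (π s)) (S.residueField s) :=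
    inferInstance
  have hbij := IsSepClosed.algebraMap_bijective ((Spec (CommRingCat.of k)).residueField (π s)) (S.residueField s)
  exact Groth.Agent.Lib.Helper22.EtStalk.SepField.isSepClosed_of_ringEquiv _ _
    (RingEquiv.ofBijective _ hbij)

include π in
/-- Every point of a scheme étale over a field is closed. -/
theorem isClosed_singleton (s : S) : IsClosed ({s} : Set S) := by
  have hlqf : LocallyQuasiFinite π := Groth.Agent.Lib.Helper14.AS.etale_locallyQuasiFinite π
  have hd := π.isDiscrete_preimage_singleton (π s)
  have huniv : π ⁻¹' {π s} = Set.univ := by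
    ext t
    simp only [Set.mem_preimage, Set.mem_singleton_iff, Set.mem_univ, iff_true]
    exact Subsingleton.elim _ _
  rw [huniv] at hd
  have : DiscreteTopology S := isDiscrete_univ_iff.1 hd
  exact isClosed_discrete _

end Groth.Agent.Lib.Helper22.SepPt
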