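import Groth.Agent.Lib.Helper22.SepPt.Normal
import Groth.Agent.Lib.Helper22.EtAcyc.TruncLeray

/-!
# Cohomology of constant sheaves on a normal integral scheme with separably closed function field
vanishes (helper22)
-/

set_option autoImplicit false
set_option linter.unusedSectionVars false
universe u
open CategoryTheory CategoryTheory.Limits AlgebraicGeometry Opposite TopologicalSpace

namespace Groth.Agent.Lib.Helper22.SepPt

open Groth.Agent.Lib.Helper22.EtLoc.ConstHom

attribute [local instance] Groth.Agent.Lib.Helper22.EtAcycLib.pfl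

variable {X : Scheme.{u}} [IsIntegral X]
  (hN : ∀ x : X, IsIntegrallyClosed (X.presheaf.stalk x)) [IsSepClosed X.functionField]

/-- Cohomology of the spectrum of a separably closed field vanishes. -/
theorem subsingleton_H_Spec {k : Type u} [Field k] [IsSepClosed k]
    (G : EtCoh.Ab (Spec (CommRingCat.of k))) (q : ℕ) (hq : 1 ≤ q) :
    Subsingleton (EtCoh.H (Spec (CommRingCat.of k)) G q) :=
  Groth.Agent.S0088.result (Spec (CommRingCat.of k))
    (fun s => isClosed_singleton (𝟙 (Spec (CommRingCat.of k))) s)
    (fun s => isSepClosed_residueField (𝟙 (Spec (CommRingCat.of k))) s) G q hq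

set_option backward.isDefEq.respectTransparency.types false in
include hN in
/-- **Cohomology of a constant sheaf vanishes in positive degrees.** -/
theorem subsingleton_H_cst (M : AddCommGrpCat.{u + 1}) (q : ℕ) (hq : 1 ≤ q) :
    Subsingleton (EtCoh.H X (cst (U := X) M) q) := by
  have hsc : IsSepClosed (X.residueField (genericPoint X)) := isSepClosed_residueField_genericPoint
  let g := gpt X
  let G : EtCoh.Ab (Spec (X.residueField (genericPoint X))) := (EtCoh.pull g).obj (cst M)
  have hunit : IsIso ((EtCoh.pullPushAdj g).unit.app (cst (U := X) M)) :=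
    Groth.Agent.Lib.Helper22.NormalUnit.Gen2.isIso_unit_cst_generic M g
      (Scheme.range_fromSpecResidueField (genericPoint X)) hN
  have hacyc : ∀ p : ℕ, 1 ≤ p → p ≤ q → IsZero ((EtCoh.Rpush g p).obj G) := fun p hp _ =>
    isZero_Rpush_sepClosedPoint (k := X.residueField (genericPoint X)) g G p hp
  have hbij := (Groth.Agent.Lib.Helper22.EtAcycLib.HofPush_trunc g q G hacyc).1 q le_rfl
  have hsub : Subsingleton (EtCoh.H (Spec (X.residueField (genericPoint X))) G q) :=
    subsingleton_H_Spec (k := X.residueField (genericPoint X)) G q hq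
  have hsub2 : Subsingleton (EtCoh.H X ((EtCoh.push g).obj G) q) := hbij.1.subsingleton
  let e := asIso ((EtCoh.pullPushAdj g).unit.app (cst (U := X) M))
  let φ := (EtCoh.HF X q).mapIso e
  have hφ : Function.Injective φ.hom := (ConcreteCategory.bijective_of_isIso φ.hom).1
  have hsub3 : Subsingleton ↑((EtCoh.HF X q).obj ((EtCoh.pull g ⋙ EtCoh.push g).obj (cst M))) :=
    hsub2
  exact hφ.subsingleton

set_option backward.isDefEq.respectTransparency.types false in
/-- `H^0` of a constant sheaf on an integral scheme. -/
theorem card_H0_cst (M : AddCommGrpCat.{u + 1}) :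
    Nat.card (EtCoh.H X (cst (U := X) M) 0) = Nat.card M := by
  have e1 : EtCoh.H X (cst (U := X) M) 0 ≃ (cst (U := X) M).obj.obj (op (EtCoh.top X)) :=
    (Sheaf.H.equiv₀ _ (EtCore.topIsTerminal X)).toEquiv
  have hbij : Function.Bijective (tsec M (EtCoh.top X) : M → (cst (U := X) M).obj.obj (op (EtCoh.top X))) := by
    have hne : Nonempty X := inferInstance
    obtain ⟨x₀⟩ := hne
    constructor
    · intro m m' h
      exact Groth.Agent.Lib.Helper22.NormalUnit.eq_of_tsec_eq M (EtCoh.top X) x₀ m m' h
    · intro t
      have : PreconnectedSpace (EtCoh.top X).left :=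
        inferInstanceAs (PreconnectedSpace X)
      obtain ⟨m, hm⟩ := Groth.Agent.Lib.Helper22.NormalUnit.exists_eq_tsec M (EtCoh.top X) x₀ t
      exact ⟨m, hm.symm⟩
  rw [Nat.card_congr e1, ← Nat.card_congr (Equiv.ofBijective _ hbij)]

end Groth.Agent.Lib.Helper22.SepPt
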