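import Groth.Agent.Lib.Helper22.SepPt.Basic
import Groth.Agent.Lib.Helper22.EtAcyc.LocZero
import Groth.Agent.Lib.Helper22.EtLoc.Clopen
import Groth.Agent.S0088

/-!
# Higher direct images from the spectrum of a separably closed field vanish (helper22)
-/

set_option autoImplicit false
set_option linter.unusedSectionVars false
universe u
open CategoryTheory CategoryTheory.Limits AlgebraicGeometry Opposite TopologicalSpace

namespace Groth.Agent.Lib.Helper22.SepPt

open Groth.Agent.Lib.Helper22.EtAcycLib Groth.Agent.Lib.Helper22.EtLoc.Clopen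

/-- The fibre product of an affine scheme mapping into an affine open with a one-point scheme is
affine. -/
theorem isAffine_pullback_of_le {B W' P : Scheme.{u}} [IsAffine W'] [IsAffine P] [Subsingleton P]
    (w : W' ⟶ B) (h : P ⟶ B) (B₀ : B.Opens) (hB₀ : IsAffineOpen B₀)
    (hw : Set.range w ⊆ (B₀ : Set B)) : IsAffine (pullback w h) := by
  by_cases hh : Set.range h ⊆ (B₀ : Set B)
  · have hw' : Set.range w ⊆ Set.range B₀.ι := by rw [Scheme.Opens.range_ι]; exact hw
    have hh' : Set.range h ⊆ Set.range B₀.ι := by rw [Scheme.Opens.range_ι]; exact hh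
    let w₀ : W' ⟶ (B₀ : Scheme.{u}) := IsOpenImmersion.lift B₀.ι w hw'
    let h₀ : P ⟶ (B₀ : Scheme.{u}) := IsOpenImmersion.lift B₀.ι h hh'
    have e1 : w₀ ≫ B₀.ι = w := IsOpenImmersion.lift_fac _ _ _
    have e2 : h₀ ≫ B₀.ι = h := IsOpenImmersion.lift_fac _ _ _
    have : IsAffine (B₀ : Scheme.{u}) := hB₀
    have haff : IsAffine (pullback w₀ h₀) := inferInstance
    have hlim := pullbackIsPullbackOfCompMono w₀ h₀ B₀.ι
    have hiso : pullback (w₀ ≫ B₀.ι) (h₀ ≫ B₀.ι) ≅ pullback w₀ h₀ :=
      (limit.isLimit _).conePointUniqueUpToIso hlim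
    have : IsAffine (pullback (w₀ ≫ B₀.ι) (h₀ ≫ B₀.ι)) := .of_isIso hiso.hom
    rw [← e1, ← e2]
    exact this
  · have : IsEmpty ↥(pullback w h) := by
      constructor
      intro z
      apply hh
      rintro _ ⟨p, rfl⟩
      have hp : p = pullback.snd w h z := Subsingleton.elim _ _
      have hc : w (pullback.fst w h z) = h (pullback.snd w h z) := by
        rw [← Scheme.Hom.comp_apply, ← Scheme.Hom.comp_apply, pullback.condition]
      rw [hp, ← hc]
      exact hw ⟨_, rfl⟩
    infer_instance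

variable {B : Scheme.{u}} {k : Type u} [Field k] [IsSepClosed k]
  (h : Spec (CommRingCat.of k) ⟶ B)

set_option backward.isDefEq.respectTransparency.types false in
/-- Cohomology of the fibre of a small affine étale scheme vanishes. -/
theorem subsingleton_H_fibre (W : B.Etale) (N : W.left.Opens) (hN : IsAffineOpen N)
    (B₀ : B.Opens) (hB₀ : IsAffineOpen B₀) (hNB : ∀ p : W.left, p ∈ N → (W.hom : W.left ⟶ B) p ∈ B₀)
    (F : EtCoh.Ab ((EtCoh.bc h).obj (openSub W N)).left) (q : ℕ) (hq : 1 ≤ q) :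
    Subsingleton (EtCoh.H ((EtCoh.bc h).obj (openSub W N)).left F q) := by
  let wh : W.left ⟶ B := W.hom
  have hWet : Etale wh := W.prop
  let w : (N : Scheme.{u}) ⟶ B := N.ι ≫ wh
  have : IsAffine (N : Scheme.{u}) := hN
  have hrange : Set.range w ⊆ (B₀ : Set B) := by
    rintro _ ⟨p, rfl⟩
    exact hNB p.1 p.2
  have haff : IsAffine (pullback w h) := isAffine_pullback_of_le w h B₀ hB₀ hrange
  have hπ : Etale (pullback.snd w h) := inferInstance
  exact Groth.Agent.S0088.result (pullback w h)
    (fun s => isClosed_singleton (pullback.snd w h) s)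
    (fun s => isSepClosed_residueField (pullback.snd w h) s) F q hq

attribute [local instance] Groth.Agent.Lib.Helper22.EtAcycLib.pfl

set_option backward.isDefEq.respectTransparency.types false in
/-- Cohomology classes on fibres over a separably closed point die locally on the base. -/
theorem LZ_sepClosedPoint (G : EtCoh.Ab (Spec (CommRingCat.of k))) (q : ℕ) (hq : 1 ≤ q) :
    LZ h G q := by
  intro W ξ y
  let wh : W.left ⟶ B := W.hom
  obtain ⟨_, ⟨B₀, hB₀, rfl⟩, hyB₀, -⟩ :=
    B.isBasis_affineOpens.exists_subset_of_mem_open (Set.mem_univ (wh y)) isOpen_univ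
  obtain ⟨_, ⟨N, hN, rfl⟩, hyN, hNB⟩ :=
    W.left.isBasis_affineOpens.exists_subset_of_mem_open
      (show y ∈ ((wh ⁻¹ᵁ B₀ : W.left.Opens) : Set W.left) from hyB₀) (wh ⁻¹ᵁ B₀).isOpen
  have hsub := subsingleton_H_fibre h W N hN B₀ hB₀ (fun p hp => hNB hp)
    ((EtCoh.pull ((EtCoh.bc h).map (openSubι W N)).left).obj ((EtCoh.pull (kk h W)).obj G)) q hq
  exact ⟨openSub W N, openSubι W N, ⟨y, hyN⟩, rfl, Subsingleton.elim _ _⟩

/-- **Higher direct images from the spectrum of a separably closed field vanish.** -/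
theorem isZero_Rpush_sepClosedPoint (G : EtCoh.Ab (Spec (CommRingCat.of k))) (q : ℕ)
    (hq : 1 ≤ q) : IsZero ((EtCoh.Rpush h q).obj G) :=
  isZero_Rpush_of_LZ h q G (fun q' h1 _ => LZ_sepClosedPoint h G q' h1) q hq le_rfl

end Groth.Agent.Lib.Helper22.SepPt
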