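import Groth.Agent.Lib.Helper22.SepPt.LZ
import Groth.Agent.Lib.Helper22.NormalUnit.Generic2
import Groth.Agent.Lib.Helper22.EdgeIso.EdgeIn
import Groth.Prelude.Def_EtBC2

/-!
# Higher direct images of constant sheaves on a normal integral scheme with separably closed
function field vanish (helper22)
-/

set_option autoImplicit false
set_option linter.unusedSectionVars false
universe u
open CategoryTheory CategoryTheory.Limits AlgebraicGeometry Opposite TopologicalSpace

namespace Groth.Agent.Lib.Helper22.SepPt

open Groth.Agent.Lib.Helper22.EtLoc.ConstHom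

attribute [local instance] Groth.Agent.Lib.Helper22.EtAcycLib.pfl

variable {X : Scheme.{u}} [IsIntegral X]

set_option backward.isDefEq.respectTransparency.types false in
/-- The residue field at the generic point is separably closed if the function field is. -/
theorem isSepClosed_residueField_genericPoint [IsSepClosed X.functionField] :
    IsSepClosed (X.residueField (genericPoint X)) := by
  have hfield : IsField (X.presheaf.stalk (genericPoint X)) :=
    (inferInstance : Field X.functionField).toIsField
  have hmax : IsLocalRing.maximalIdeal (X.presheaf.stalk (genericPoint X)) = ⊥ :=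
    IsLocalRing.isField_iff_maximalIdeal_eq.1 hfield
  have hinj : Function.Injective (X.residue (genericPoint X)).hom := by
    rw [injective_iff_map_eq_zero]
    intro a ha
    have h1 : a ∈ IsLocalRing.maximalIdeal (X.presheaf.stalk (genericPoint X)) :=
      (IsLocalRing.residue_eq_zero_iff a).1 ha
    rw [hmax] at h1
    exact h1
  have hsurj : Function.Surjective (X.residue (genericPoint X)).hom :=
    X.residue_surjective (genericPoint X)
  let e : X.functionField ≃+* X.residueField (genericPoint X) :=
    RingEquiv.ofBijective (X.residue (genericPoint X)).hom ⟨hinj, hsurj⟩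
  exact Groth.Agent.Lib.Helper22.EtStalk.SepField.isSepClosed_of_ringEquiv X.functionField
    (X.residueField (genericPoint X)) e

variable (hN : ∀ x : X, IsIntegrallyClosed (X.presheaf.stalk x)) [IsSepClosed X.functionField]

/-- The generic geometric-like point of `X`. -/
noncomputable abbrev gpt (X : Scheme.{u}) [IsIntegral X] : Spec (X.residueField (genericPoint X)) ⟶ X :=
  X.fromSpecResidueField (genericPoint X)

set_option backward.isDefEq.respectTransparency.types false in
include hN in
/-- **`R^q f_*` of a constant sheaf vanishes for `q > 0`** when the source is normal integral with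
separably closed function field. -/
theorem isZero_Rpush_cst {Y : Scheme.{u}} (f : X ⟶ Y) (M : AddCommGrpCat.{u + 1}) (q : ℕ)
    (hq : 1 ≤ q) : IsZero ((EtCoh.Rpush f q).obj (cst (U := X) M)) := by
  have hsc : IsSepClosed (X.residueField (genericPoint X)) := isSepClosed_residueField_genericPoint
  let g := gpt X
  let G : EtCoh.Ab (Spec (X.residueField (genericPoint X))) := (EtCoh.pull g).obj (cst M)
  have hunit : IsIso ((EtCoh.pullPushAdj g).unit.app (cst (U := X) M)) :=
    Groth.Agent.Lib.Helper22.NormalUnit.Gen2.isIso_unit_cst_generic M g
      (Scheme.range_fromSpecResidueField (genericPoint X)) hN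
  have hacyc : ∀ p : ℕ, 0 < p → IsZero ((EtCoh.Rpush g p).obj G) := fun p hp =>
    isZero_Rpush_sepClosedPoint (k := X.residueField (genericPoint X)) g G p hp
  have h1 : IsIso (RDer.edgeIn (EtCoh.push g) (EtCoh.push f) q G) :=
    Groth.Agent.Lib.Helper22.EdgeIn.isIso_edgeIn (EtCoh.push g) (EtCoh.push f) G hacyc q
  have h2 : IsIso (EtBC.lerayEdgeIn g f q G) := by
    dsimp only [EtBC.lerayEdgeIn]
    infer_instance
  have h3 : IsZero ((EtCoh.Rpush (g ≫ f) q).obj G) :=
    isZero_Rpush_sepClosedPoint (k := X.residueField (genericPoint X)) (g ≫ f) G q hq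
  have h4 : IsZero ((EtCoh.Rpush f q).obj ((EtCoh.push g).obj G)) :=
    h3.of_iso (asIso (EtBC.lerayEdgeIn g f q G))
  exact h4.of_iso ((EtCoh.Rpush f q).mapIso (asIso ((EtCoh.pullPushAdj g).unit.app (cst (U := X) M))))

end Groth.Agent.Lib.Helper22.SepPt
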